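import Groth.Agent.SerreVanLib.TwTensor
import Groth.Agent.AtlasCohLib.ChowData
import Groth.Agent.AmpleThLib.VeryAmple
import Groth.Agent.ChowLib.Embed
import Groth.Agent.ModSiteLib.TensorAssoc
import Groth.Agent.RpushLib.Vanish
import Groth.Prelude.Def_Coh

/-!
# Serre vanishing for ample modules on proper schemes over affine Noetherian bases
-/

set_option autoImplicit false
universe u

open CategoryTheory CategoryTheory.Limits AlgebraicGeometry TopologicalSpace Opposite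
open ChowLib RelProjLib AmpleLib AmpleThLib
open QCohLib (toAbF)

noncomputable section

namespace SerreVanLib

variable {X : Scheme.{u}}

theorem subsingleton_HH_of_iso {M N : X.Modules} (e : M ≅ N) (p : ℕ)
    (h : Subsingleton (Coh.HH X N p)) : Subsingleton (Coh.HH X M p) := by
  refine ⟨fun x y => ?_⟩
  have key : ∀ z : Coh.HH X M p,
      Sheaf.H.map ((toAbF X).map e.inv) p (Sheaf.H.map ((toAbF X).map e.hom) p z) = z := fun z => by
    rw [← Sheaf.H.map_comp_apply, ← Functor.map_comp, e.hom_inv_id, CategoryTheory.Functor.map_id,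
      Sheaf.H.map_id_apply]
  rw [← key x, ← key y]
  exact congrArg _ (@Subsingleton.elim _ h _ _)

/-- Serre vanishing for twists by a very ample module. -/
theorem exists_vanishing_veryAmple {R : Type u} [CommRing R] [IsNoetherianRing R]
    (f : X ⟶ Spec (CommRingCat.of R)) [IsProper f] {P : X.Modules}
    (h : RelAmple.IsRelVeryAmplePn f P) (M : X.Modules) (hM : Coh.IsCoh M) :
    ∃ d₀ : ℕ, ∀ d : ℕ, d₀ ≤ d → ∀ p : ℕ, 0 < p →
      Subsingleton (Coh.HH X (CohB1.tensorMod M (CohB1.tensorPow P d)) p) := by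
  obtain ⟨n, i, hi, hiq, ⟨φ⟩⟩ := h
  have := hi
  let Y := Spec (CommRingCat.of R)
  have hiq' : i ≫ CohB1.ProjSpaceOver.toBase n Y = f := hiq
  have : IsProper (i ≫ CohB1.ProjSpaceOver.toBase n Y) := by rw [hiq']; infer_instance
  have : IsSeparated (CohB1.ProjSpaceOver.toBase n Y) := (ChowLib.isProper_toBase n Y).toIsSeparated
  have : UniversallyClosed i := .of_comp_of_isSeparated i (CohB1.ProjSpaceOver.toBase n Y)
  have : IsClosedImmersion i := IsClosedImmersion.of_isPreimmersion i i.isClosedMap.isClosed_range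
  let r := i ≫ toPZ n Y
  let O1 := Twist.twist (gr.{u} n) ((1 : ℕ) : ℤ)
  let ψ : KFlatLib.pb r O1 ≅ P :=
    ((Scheme.Modules.pullbackComp i (toPZ n Y)).app _).symm ≪≫ φ.symm
  let glob : Fin (n + 1) → Γ(O1, ⊤) := fun a =>
    Twist.globalOf (gr.{u} n) ⟨MvPolynomial.X a, X_mem a⟩
  let e : ∀ a, Γ(P, r ⁻¹ᵁ Dplus a) := fun a =>
    ψ.hom.app _ (KFlatLib.puSec r (AmpleLib.res O1 (le_top : Dplus a ≤ ⊤) (glob a)))
  have he : ∀ a, AmpleLib.GenOn P (e a) := fun a => TwistLib.genOn_of_genAt fun x hx =>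
    (TwistLib.genAt_app_iso ψ _ hx).mpr
      (TwistLib.GenAt.puSec r ((TwistLib.globalOf_genOn (gr.{u} n) (X_mem a)).genAt hx))
  let τ : Fin (n + 1) → Γ(P, ⊤) := fun j => ψ.hom.app ⊤ (KFlatLib.puSec r (glob j))
  have hτ : ∀ a j, AmpleLib.res P (le_top : r ⁻¹ᵁ Dplus a ≤ ⊤) (τ j) = coord r a j le_rfl • e a := by
    intro a j
    have hc := TwistLib.frac_smul_globalOf (gr.{u} n) (X_mem a) (X_mem j)
    have hfr : TwistLib.frac (gr.{u} n) (X_mem a) (X_mem j) = coordRing a j := rfl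
    rw [hfr] at hc
    have h1 := congrArg (fun t => ψ.hom.app (r ⁻¹ᵁ Dplus a) (KFlatLib.puSec r t)) hc
    have e1 := congrArg (ψ.hom.app (r ⁻¹ᵁ Dplus a)) (TwistLib.puSec_smul r (cj a j)
      (AmpleLib.res O1 (le_top : Dplus a ≤ ⊤) (glob a)))
    have h3 := (Scheme.Modules.Hom.app_smul ψ.hom _ _).symm.trans (e1.symm.trans h1)
    rw [coord_eq r a j le_rfl]
    rw [Scheme.Hom.app_eq_appLE] at h3
    refine Eq.trans ?_ h3.symm
    exact ((congrArg (ψ.hom.app (r ⁻¹ᵁ Dplus a)) (TwistLib.puSec_res r le_top (glob j))).trans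
      (NatTrans.naturality_apply ψ.hom.mapPresheaf (homOfLE (le_top : r ⁻¹ᵁ Dplus a ≤ ⊤)).op _)).symm
  let C := AtlasCoh.coordsOf r
  have htr : ∀ (a b : Fin (n + 1)) (W : X.Opens) (ha : W ≤ C.U a) (hb : W ≤ C.U b),
      AmpleLib.res P hb (e b) = AtlasCoh.resO ha (C.coord a b) • AmpleLib.res P ha (e a) := by
    intro a b W ha hb
    have hWa : W ≤ r ⁻¹ᵁ Dplus a := ha
    have hWb : W ≤ r ⁻¹ᵁ Dplus b := hb
    have h1 := ((AmpleLib.res_res P le_top hWa (τ b)).symm.trans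
      (congrArg (AmpleLib.res P hWa) (hτ a b))).trans (AmpleLib.res_smul P hWa _ _)
    have h2 := ((AmpleLib.res_res P le_top hWb (τ b)).symm.trans
      (congrArg (AmpleLib.res P hWb) (hτ b b))).trans (AmpleLib.res_smul P hWb _ _)
    rw [RelProjLib.coord_self, map_one, one_smul] at h2
    exact h2.symm.trans h1
  let A : AtlasCoh.Atlas C ⊤ R :=
    AtlasCoh.atlasOf r f i hiq' rfl (W := ⊤) (isAffineOpen_top _)
      (Scheme.ΓSpecIso (CommRingCat.of R)).inv.hom
      (ConcreteCategory.bijective_of_isIso (Scheme.ΓSpecIso (CommRingCat.of R)).inv).2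
  have hC : ⨆ a, C.U a = ⊤ := top_le_iff.1 A.le_iSup
  haveI := hM.1
  obtain ⟨d₁, hd₁⟩ := AtlasCoh.exists_subsingleton_HU_tw A M hC hM.2
  refine ⟨d₁.toNat, fun d hd p hp => ?_⟩
  obtain ⟨p, rfl⟩ := Nat.exists_eq_succ_of_ne_zero hp.ne'
  obtain ⟨E⟩ := nonempty_tensor_iso_tw C hC M (CohB1.tensorPow P d) (fun a => pS (e a) d)
    (fun a => pS_genOn (he a) d) d fun a b W ha hb =>
      (pS_res hb (e b) d).trans ((congrArg (fun t => pS t d) (htr a b W ha hb)).trans
        ((pS_smul _ _ d).trans (congrArg (_ • ·) (pS_res ha (e a) d).symm)))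
  refine subsingleton_HH_of_iso E _ ?_
  have := hd₁ (d : ℤ) (by omega) p
  exact (QCohLib.hEquiv (Coh.toAb (AtlasCoh.tw M C (d : ℤ))) (p + 1)).injective.subsingleton

/-- Associativity of tensor products. -/
def tensorAssoc (A B C : X.Modules) :
    CohB1.tensorMod (CohB1.tensorMod A B) C ≅ CohB1.tensorMod A (CohB1.tensorMod B C) :=
  (((ModSiteLib.assocBi X.sheaf).app A).app B).app C

/-- Tensor products respect isomorphisms. -/
def tensorCongr (M : X.Modules) {A B : X.Modules} (e : A ≅ B) :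
    CohB1.tensorMod M A ≅ CohB1.tensorMod M B :=
  ((DCoh.tensorBi (X := X)).obj M).mapIso e

theorem nonempty_assoc_congr (A B C : X.Modules) {C' D : X.Modules} (e : C ≅ C')
    (μ : CohB1.tensorMod B C' ≅ D) :
    Nonempty (CohB1.tensorMod (CohB1.tensorMod A B) C ≅ CohB1.tensorMod A D) :=
  ⟨tensorAssoc A B C ≪≫ tensorCongr A (tensorCongr B e ≪≫ μ)⟩

/-- `(M ⊗ L^j) ⊗ (L^m)^q ≅ M ⊗ L^(j + m q)`. -/
theorem nonempty_tensor_pow_iso (M : X.Modules) {L : X.Modules} (hL : PicF.IsInvertible L)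
    (m j q : ℕ) : Nonempty (CohB1.tensorMod M (CohB1.tensorPow L (j + m * q)) ≅
      CohB1.tensorMod (CohB1.tensorMod M (CohB1.tensorPow L j))
        (CohB1.tensorPow (CohB1.tensorPow L m) q)) := by
  obtain ⟨e, -⟩ := exists_powIso hL m q
  exact ⟨(nonempty_assoc_congr M _ _ e (mulIso hL j (m * q))).some.symm⟩

/-- **Serre vanishing.** -/
theorem exists_vanishing {R : Type u} [CommRing R] [IsNoetherianRing R]
    (f : X ⟶ Spec (CommRingCat.of R)) [IsProper f] {L : X.Modules} (hL : PicF.IsInvertible L)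
    (hA : CohB1.IsAmple L) (M : X.Modules) (hM : Coh.IsCoh M) :
    ∃ n₀ : ℕ, ∀ n : ℕ, n₀ ≤ n → ∀ p : ℕ, 0 < p →
      Subsingleton (Coh.HH X (CohB1.tensorMod M (CohB1.tensorPow L n)) p) := by
  obtain ⟨n₁, hn₁⟩ := eventually_veryAmple f hL hA
  let m := n₁ + 1
  choose d hd using fun j : Fin m => exists_vanishing_veryAmple f (hn₁ m (Nat.le_succ n₁))
    (CohB1.tensorMod M (CohB1.tensorPow L j)) (isCoh_tensor hM (tensorPow_isInvertible hL j))
  refine ⟨m * (∑ j, d j + 1), fun n hn p hp => ?_⟩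
  have hm : 0 < m := Nat.succ_pos n₁
  have hq : ∑ j, d j + 1 ≤ n / m := (Nat.le_div_iff_mul_le hm).mpr (by rwa [mul_comm] at hn)
  obtain ⟨e⟩ := nonempty_tensor_pow_iso M hL m (n % m) (n / m)
  rw [Nat.mod_add_div] at e
  refine subsingleton_HH_of_iso e p (hd ⟨n % m, Nat.mod_lt _ hm⟩ (n / m) ?_ p hp)
  have := Finset.single_le_sum (f := d) (fun _ _ => Nat.zero_le _)
    (Finset.mem_univ (⟨n % m, Nat.mod_lt _ hm⟩ : Fin m))
  omega

end SerreVanLib

end
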