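import Groth.Agent.SerreVanLib.Main
import Groth.Agent.QCohLib.SerreCrit
import Groth.Agent.CurvLib.EulerTensor

/-!
# Ampleness from the vanishing of `H¹` of twisted ideals
-/

set_option autoImplicit false
universe u

open CategoryTheory CategoryTheory.Limits AlgebraicGeometry TopologicalSpace Opposite
open AmpleLib (shT GenAt GenOn)
open QCohLib (toAbF structMap)
open scoped TensorProduct

noncomputable section

namespace SerreVanLib

variable {X : Scheme.{u}}

/-- Tensoring with a generator is injective on sections. -/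
theorem shT_gen_injective {P Q : X.Modules} {W : X.Opens} {g : Γ(P, W)} (hg : GenOn P g)
    (a b : Γ(Q, W)) (h : shT g a = shT g b) : a = b := by
  refine TopCat.Presheaf.section_ext (Coh.toAb Q) W a b fun x hx => ?_
  have h1 := congrArg ((CohB1.tensorMod P Q).presheaf.germ W x hx) h
  have e : ∀ c : Γ(Q, W), (CohB1.tensorMod P Q).presheaf.germ W x hx (shT g c) =
      KFlatLib.stalkTensorLin P Q x (P.presheaf.germ W x hx g ⊗ₜ Q.presheaf.germ W x hx c) :=
    fun c => (KFlatLib.stalkTensorLin_germ P Q x hx g c).symm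
  rw [e, e] at h1
  have h2 := (KFlatLib.stalkTensorLin_bijective P Q x).1 h1
  exact (GrTildeLib.bijective_tmul_gen (S := X.presheaf.stalk x) (A := Q.presheaf.stalk x)
    (P.presheaf.germ W x hx g) (hg.genAt hx)).1
      (show Q.presheaf.germ W x hx a ⊗ₜ[X.presheaf.stalk x] P.presheaf.germ W x hx g =
          Q.presheaf.germ W x hx b ⊗ₜ[X.presheaf.stalk x] P.presheaf.germ W x hx g from
        congrArg (TensorProduct.comm (X.presheaf.stalk x) _ _) h2)

/-- `P ⊗ O ≅ P`. -/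
theorem exists_unit_iso (P : X.Modules) : ∃ φ : CohB1.tensorMod P (Coh.structureModule X) ⟶ P,
    IsIso φ ∧ ∀ (V : X.Opens) (m : Γ(P, V)) (r : Γ(X, V)), φ.app V (shT m r) = r • m := by
  obtain ⟨φ, hφ⟩ := GrTildeLib.exists_tens_hom (M := P) (N := Coh.structureModule X) (P := P)
    (fun V (m : Γ(P, V)) (r : Γ(X, V)) => r • m) (fun V m m' r => smul_add (show Γ(X, V) from r) m m')
    (fun V m r r' => add_smul (show Γ(X, V) from r) (show Γ(X, V) from r') m)
    (fun V c m r => smul_comm (show Γ(X, V) from r) c m)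
    (fun V c m r => mul_smul c (show Γ(X, V) from r) m)
    (fun V W h m r => AmpleLib.res_smul P h (show Γ(X, W) from r) m)
  refine ⟨φ, GrTildeLib.isIso_of_bilin φ fun x => ?_, hφ⟩
  refine ⟨⊤, trivial, (1 : Γ(X, ⊤)), (AmpleLib.one_genOn ⊤).genAt trivial, fun V hV => ?_⟩
  have e : AmpleLib.res (Coh.structureModule X) hV (1 : Γ(X, ⊤)) = (1 : Γ(X, V)) :=
    map_one (X.presheaf.map (homOfLE hV).op).hom
  simp only [e, hφ, one_smul]
  exact Function.bijective_id

theorem isAmple_of_vanishing [CompactSpace X] (L : X.Modules) (hL : PicF.IsInvertible L)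
    (h : ∀ (I : X.Modules) (i : I ⟶ Coh.structureModule X), Mono i → Coh.IsQCoh I →
      ∃ n : ℕ, Subsingleton (Coh.HH X (CohB1.tensorMod I (CohB1.tensorPow L (n + 1))) 1)) :
    CohB1.IsAmple L := by
  refine ⟨hL, inferInstance, fun y => ?_⟩
  obtain ⟨x, hxy, hx⟩ := IsClosed.exists_closed_singleton (S := closure ({y} : Set X))
    isClosed_closure ⟨y, subset_closure rfl⟩
  suffices ∃ (n : ℕ) (σ : Γ(CohB1.tensorPow L (n + 1), ⊤)),
      x ∈ TwistLib.genSet (AmpleThLib.tensorPow_isInvertible hL (n + 1)) σ ∧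
      IsAffineOpen (TwistLib.genSet (AmpleThLib.tensorPow_isInvertible hL (n + 1)) σ) by
    obtain ⟨n, σ, h1, h2⟩ := this
    refine ⟨n, QCohLib.unitHom _ σ, ?_⟩
    rw [AmpleThLib.genLocus_unitHom (AmpleThLib.tensorPow_isInvertible hL (n + 1)) σ]
    exact ⟨(specializes_iff_mem_closure.mpr hxy).mem_open (TopologicalSpace.Opens.isOpen _) h1, h2⟩
  obtain ⟨U₀, e₀, hxU₀, he₀⟩ := TwistLib.exists_genOn hL x
  obtain ⟨U, hU, hxU, hUle⟩ := Opens.isBasis_iff_nbhd.mp X.isBasis_affineOpens hxU₀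
  let Z : Closeds X := ⟨(U : Set X)ᶜ ∪ {x}, U.isOpen.isClosed_compl.union hx⟩
  let I := Scheme.IdealSheafData.vanishingIdeal Z
  let i := I.subschemeι
  have hr : Set.range i = (U : Set X)ᶜ ∪ {x} := by
    rw [I.range_subschemeι, Scheme.IdealSheafData.coe_support_vanishingIdeal]
    rfl
  let V : X.Opens := ⟨{x}ᶜ, hx.isOpen_compl⟩
  let A : I.subscheme.Opens := i ⁻¹ᵁ U
  let B : I.subscheme.Opens := i ⁻¹ᵁ V
  have hAB : A ⊓ B ≤ ⊥ := fun w hw => by
    rcases hr.le ⟨w, rfl⟩ with h | h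
    · exact h hw.1
    · exact hw.2 h
  have htop : (⊤ : X.Opens) ≤ U ⊔ V := fun p _ => by
    by_cases h : p = x
    · exact Or.inl (h ▸ hxU)
    · exact Or.inr h
  let Q : X.Modules := (Scheme.Modules.pushforward i).obj (Coh.structureModule I.subscheme)
  haveI : Coh.IsQCoh Q :=
    @QCohLib.isQCoh_pushforward _ _ i _ _ _ (QCohLib.isQCoh_unit)
  haveI := QCohLib.epi_structMap i
  haveI : Coh.IsQCoh (Coh.structureModule X) := QCohLib.isQCoh_unit
  let q : Coh.structureModule X ⟶ Q := structMap i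
  obtain ⟨n, hn⟩ := h (kernel q) (kernel.ι q) inferInstance (QCohLib.isQCoh_kernel q)
  let P := CohB1.tensorPow L (n + 1)
  have hP : PicF.IsInvertible P := AmpleThLib.tensorPow_isInvertible hL (n + 1)
  let g : Γ(P, U) := AmpleThLib.pS (AmpleLib.res L hUle e₀) (n + 1)
  have hg : GenOn P g := AmpleThLib.pS_genOn (he₀.res hUle) _
  have hbot : ∀ W : X.Opens, W ≤ U → W ≤ V → Subsingleton Γ(Q, W) := fun W h1 h2 => by
    have h3 : i ⁻¹ᵁ W ≤ ⊥ := (le_inf (i.preimage_mono h1) (i.preimage_mono h2)).trans hAB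
    have : ∀ O : I.subscheme.Opens, O = ⊥ → Subsingleton Γ(I.subscheme, O) := by
      rintro O rfl; infer_instance
    exact this _ (le_bot_iff.mp h3)
  let T := CohB1.tensorMod P Q
  let sec : ∀ b : ULift.{u} Bool, Γ(T, if b.down then U else V) := fun b =>
    match b with
    | ⟨true⟩ => shT g (show Γ(Q, U) from (1 : Γ(I.subscheme, A)))
    | ⟨false⟩ => 0
  have hz : ∀ (W : X.Opens) (h1 : W ≤ U) (h2 : W ≤ V),
      AmpleLib.res T h1 (sec ⟨true⟩) = AmpleLib.res T h2 (sec ⟨false⟩) := fun W h1 h2 => by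
    have := hbot W h1 h2
    refine (AmpleLib.shT_res h1 g _).trans ?_
    refine (congrArg (shT (AmpleLib.res P h1 g))
      (Subsingleton.elim _ ((0 : Γ(X, W)) • (0 : Γ(Q, W))))).trans ?_
    rw [← one_smul Γ(X, W) (AmpleLib.res P h1 g), AmpleLib.shT_smul, one_mul, zero_smul]
    exact (map_zero _).symm
  obtain ⟨t, ht, -⟩ := TopCat.Sheaf.existsUnique_gluing' (Coh.toAb T)
    (fun b : ULift.{u} Bool => if b.down then U else V) ⊤ (fun b => homOfLE le_top)
    (htop.trans (sup_le (le_iSup_of_le ⟨true⟩ le_rfl) (le_iSup_of_le ⟨false⟩ le_rfl))) sec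
    (fun a b => by
      rcases a with ⟨_ | _⟩ <;> rcases b with ⟨_ | _⟩
      · rfl
      · exact (hz _ inf_le_right inf_le_left).symm
      · exact hz _ inf_le_left inf_le_right
      · rfl)
  have htU : AmpleLib.res T (le_top : U ≤ ⊤) t = shT g (show Γ(Q, U) from (1 : Γ(I.subscheme, A))) :=
    ht ⟨true⟩
  have htV : AmpleLib.res T (le_top : V ≤ ⊤) t = 0 := ht ⟨false⟩
  let S : ShortComplex X.Modules := ShortComplex.mk (kernel.ι q) q (kernel.condition q)
  have hS : S.ShortExact :=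
    { exact := ShortComplex.exact_of_f_is_kernel _ (kernelIsKernel q)
      mono_f := inferInstanceAs (Mono (kernel.ι q))
      epi_g := inferInstanceAs (Epi q) }
  have hS' := CurvLib.shortExact_tensor_locFree (CurvLib.locFree_of_isInvertible hP) hS
  have h1 : Subsingleton (QCohLib.HU ((toAbF X).obj (CohB1.tensorMod P (kernel q))) 1 ⊤) :=
    @Function.Injective.subsingleton _ _ _
      (QCohLib.hEquiv (Coh.toAb (CohB1.tensorMod P (kernel q))) 1).symm.injective
      (subsingleton_HH_of_iso (KFlatLib.tensSwap (kernel q) P) 1 hn)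
  obtain ⟨σ', hσ'⟩ := @QCohLib.exists_lift_of_subsingleton _ ((S.map (CurvLib.tensorLeft' P)).map (toAbF X))
    (QCohLib.toAbF_shortExact hS') ⊤ h1 t
  let σ₁ : Γ(CohB1.tensorMod P (Coh.structureModule X), ⊤) := σ'
  obtain ⟨φ, hφi, hφ⟩ := exists_unit_iso P
  let σ : Γ(P, ⊤) := φ.app ⊤ σ₁
  have hσ : σ₁ = shT σ (show Γ(Coh.structureModule X, ⊤) from (1 : Γ(X, ⊤))) := by
    have h2 : φ.app ⊤ σ₁ = φ.app ⊤ (shT σ (show Γ(Coh.structureModule X, ⊤) from (1 : Γ(X, ⊤)))) := by
      exact (one_smul Γ(X, ⊤) σ).symm.trans (hφ ⊤ σ _).symm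
    have h3 := congrArg ((inv φ).app ⊤) h2
    rw [← ConcreteCategory.comp_apply, ← ConcreteCategory.comp_apply, ← Scheme.Modules.Hom.comp_app,
      IsIso.hom_inv_id] at h3
    exact h3
  have key : ∀ (W : X.Opens) (γ : Γ(P, W)) (c : Γ(X, W)) (a : Γ(Q, W)), GenOn P γ →
      c • γ = AmpleLib.res P le_top σ → AmpleLib.res T (le_top : W ≤ ⊤) t = shT γ a →
      i.app W c = (show Γ(I.subscheme, i ⁻¹ᵁ W) from a) := by
    intro W γ c a hγ hc ha
    let F := (CurvLib.tensorLeft' P).map q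
    have h2 : F.app W (AmpleLib.res _ (le_top : W ≤ ⊤) σ₁) = shT γ a :=
      ((QCohLib.app_map F (homOfLE (le_top : W ≤ ⊤)) σ₁).trans (congrArg _ hσ')).trans ha
    have h3 : AmpleLib.res _ (le_top : W ≤ ⊤) σ₁ = shT γ (show Γ(Coh.structureModule X, W) from c) := by
      rw [hσ, AmpleLib.shT_res, ← hc]
      have e : AmpleLib.res (Coh.structureModule X) (le_top : W ≤ ⊤) (1 : Γ(X, ⊤)) = (1 : Γ(X, W)) :=
        map_one (X.presheaf.map (homOfLE le_top).op).hom
      rw [e]
      have h4 := AmpleLib.shT_smul c 1 γ (show Γ(Coh.structureModule X, W) from (1 : Γ(X, W)))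
      have h5 := AmpleLib.shT_smul 1 c γ (show Γ(Coh.structureModule X, W) from (1 : Γ(X, W)))
      rw [one_smul] at h4 h5
      rw [mul_one] at h4
      rw [one_mul] at h5
      exact h4.trans (h5.symm.trans (congrArg (shT γ) (mul_one c)))
    have h2 := (congrArg (F.app W) h3).symm.trans h2
    have h6 : F.app W (shT γ (show Γ(Coh.structureModule X, W) from c)) = shT γ (q.app W c) := KFlatLib.tensorBi_map₂_shTm P q γ c
    exact shT_gen_injective hγ _ _ (h6.symm.trans h2)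
  obtain ⟨c, hc⟩ := AmpleThLib.exists_coeff σ hg
  have hloc := AmpleThLib.mem_genSet_coeff hP σ hg hc
  have hcA : i.app U c = (1 : Γ(I.subscheme, A)) := key U g c _ hg hc htU
  refine ⟨n, σ, ?_, ?_⟩
  · obtain ⟨w, hw⟩ := hr.ge (Or.inr rfl : x ∈ (U : Set X)ᶜ ∪ {x})
    have hwA : w ∈ i ⁻¹ᵁ X.basicOpen c := by
      rw [Scheme.preimage_basicOpen, hcA, Scheme.basicOpen_of_isUnit _ isUnit_one]
      exact show i w ∈ U from hw ▸ hxU
    exact (hloc.ge (show x ∈ X.basicOpen c from hw ▸ hwA)).1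
  · suffices hle : TwistLib.genSet hP σ ≤ U by
      change IsAffineOpen (TwistLib.genSet hP σ)
      rw [← inf_eq_left.mpr hle, hloc]
      exact hU.basicOpen c
    intro p hp
    by_contra hpU
    obtain ⟨w, hw⟩ := hr.ge (Or.inl hpU)
    have hpV : p ∈ V := fun e => hpU (e ▸ hxU)
    obtain ⟨W₀, γ₀, hpW₀, hγ₀⟩ := TwistLib.exists_genOn hP p
    have hγ := hγ₀.res (inf_le_left : W₀ ⊓ V ≤ W₀)
    obtain ⟨d, hd⟩ := AmpleThLib.exists_coeff σ hγ
    have hd0 : i.app (W₀ ⊓ V) d = 0 := by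
      refine key (W₀ ⊓ V) _ d 0 hγ hd ?_
      have h2 := congrArg (AmpleLib.res T (inf_le_right : W₀ ⊓ V ≤ V)) htV
      rw [AmpleLib.res_res] at h2
      refine h2.trans ((map_zero _).trans ?_)
      rw [show (0 : Γ(Q, W₀ ⊓ V)) = (0 : Γ(X, W₀ ⊓ V)) • 0 from (smul_zero _).symm,
        ← one_smul Γ(X, W₀ ⊓ V) (AmpleLib.res P inf_le_left γ₀), AmpleLib.shT_smul, one_mul, zero_smul]
    have hwd : w ∈ i ⁻¹ᵁ X.basicOpen d := by
      have h3 : p ∈ X.basicOpen d := by
        rw [← AmpleThLib.mem_genSet_coeff hP σ hγ hd]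
        exact ⟨hp, hpW₀, hpV⟩
      exact (hw.symm ▸ h3 : i w ∈ X.basicOpen d)
    rw [Scheme.preimage_basicOpen, hd0, Scheme.basicOpen_zero] at hwd
    exact hwd

end SerreVanLib

end
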