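import Groth.Agent.SerreVanLib.Converse
import Groth.Agent.CurvLib.RRBasic
import Groth.Agent.CurvLib.Finite0
import Groth.Agent.CurvLib.StalkSum
import Groth.Agent.AmpleThLib.ToPn
import Groth.Agent.AmpleThLib.Ample
import Groth.Prelude.Def_Curv2
import Mathlib.AlgebraicGeometry.ZariskisMainTheorem
import Mathlib.AlgebraicGeometry.Artinian

/-!
# Ample invertible modules on proper curves are the ones of positive degree
-/

set_option autoImplicit false
universe u

open CategoryTheory CategoryTheory.Limits AlgebraicGeometry TopologicalSpace Opposite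
open AmpleLib (shT GenAt GenOn)
open TwistLib (genSet)
open ChowLib RelProjLib
open CurvLib QCohLib DevissLib

noncomputable section

namespace SerreVanLib

variable {k : Type u} [Field k] {X : Scheme.{u}} [X.Over (Spec (CommRingCat.of k))]
  [IsIntegral X] [IsProper (X ↘ Spec (CommRingCat.of k))] (hdim : topologicalKrullDim X = 1)

include k hdim in
variable (k) in
theorem proper_closed_finite {T : Set X} (hT : IsClosed T) (hne : T ≠ Set.univ) :
    T.Finite ∧ ∀ x ∈ T, IsClosed ({x} : Set X) :=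
  haveI := CurvLib.isNoetherian k (X := X)
  finite_isClosed_of_dim_le_zero hT (topologicalKrullDim_le_zero_of_lt hdim hT hne)

omit [IsIntegral X] in
include k hdim in
variable (k) in
theorem not_isAffine [IrreducibleSpace X] : ¬ IsAffine X := fun _ => by
  let f := X ↘ Spec (CommRingCat.of k)
  haveI : IsFinite f := IsFinite.iff_isProper_and_isAffineHom.mpr ⟨inferInstance, inferInstance⟩
  haveI : DiscreteTopology X := by
    have h := f.isDiscrete_preimage_singleton (Classical.arbitrary _)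
    have e : f ⁻¹' {Classical.arbitrary (Spec (CommRingCat.of k))} = Set.univ :=
      Set.eq_univ_of_forall fun x => Subsingleton.elim (α := Spec (CommRingCat.of k)) _ _
    rw [e] at h
    exact (isDiscrete_univ_iff).mp h
  have := topologicalKrullDim_zero_of_discreteTopology X
  rw [hdim] at this
  exact absurd this (by simp)

include hdim in
theorem deg_pow {L : X.Modules} (hL : PicF.IsInvertible L) (n : ℕ) :
    Curv2.euler k X (CohB1.tensorPow L n) =
      (n : ℤ) * Curv2.deg k X L 1 + Curv2.euler k X (Coh.structureModule X) := by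
  have h1 : genRank L = 1 := by
    obtain ⟨U, e, hU, he⟩ := TwistLib.exists_genOn hL (genericPoint X)
    have h := (LinearEquiv.ofBijective (LinearMap.toSpanSingleton (X.presheaf.stalk (genericPoint X))
      (L.presheaf.stalk (genericPoint X)) (L.presheaf.germ U _ hU e)) (he.genAt hU)).finrank_eq
    rw [genRank, ← h, Module.finrank_self]
  induction n with
  | zero =>
    rw [Nat.cast_zero, zero_mul, zero_add]
    rfl
  | succ n ih =>
    have h := (eulerTensorFormula_of_isCoh (k := k) hdim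
      (locFree_of_isInvertible (AmpleThLib.tensorPow_isInvertible hL n)) L (isCoh_of_isInvertible hL)).2
    change Curv2.euler k X (CohB1.tensorPow L (n + 1)) = _ at h
    rw [h, h1, Curv2.deg, ih, Curv2.deg]
    push_cast
    ring

theorem zero_not_genAt {M : X.Modules} {W : X.Opens} {x : X} {hx : x ∈ W} :
    ¬ GenAt M (0 : Γ(M, W)) hx := fun h =>
  one_ne_zero (@h.1 1 0 (by simp only [map_zero, smul_zero]))

theorem genSet_pS_one {Q : X.Modules} (hQ : PicF.IsInvertible Q) (v : Γ(Q, ⊤)) :
    genSet (AmpleThLib.tensorPow_isInvertible hQ 1) (AmpleThLib.pS v 1) = genSet hQ v := by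
  ext y
  obtain ⟨U, g, hyU, hg⟩ := TwistLib.exists_genOn hQ y
  obtain ⟨c, hc⟩ := AmpleThLib.exists_coeff v hg
  have hc1 : c • AmpleThLib.pS g 1 = AmpleLib.res _ le_top (AmpleThLib.pS v 1) := by
    rw [AmpleThLib.pS_res, ← hc, AmpleThLib.pS_smul, pow_one]
  have e₁ := AmpleThLib.mem_genSet_coeff (AmpleThLib.tensorPow_isInvertible hQ 1) _
    (AmpleThLib.pS_genOn hg 1) hc1
  have e₂ := AmpleThLib.mem_genSet_coeff hQ v hg hc
  exact ⟨fun h => (e₂.ge (e₁.le ⟨h, hyU⟩)).1, fun h => (e₁.ge (e₂.le ⟨h, hyU⟩)).1⟩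

def tmap (N : X.Modules) {A B : X.Modules} (f : A ⟶ B) : CohB1.tensorMod N A ⟶ CohB1.tensorMod N B :=
  ((DCoh.tensorBi (X := X)).obj N).map f

theorem tmap_shT (N : X.Modules) {A B : X.Modules} (f : A ⟶ B) (V : X.Opens) (a : Γ(N, V)) (b : Γ(A, V)) :
    (tmap N f).app V (shT a b) = shT a (f.app V b) :=
  KFlatLib.tensorBi_map₂_shTm N f a b

theorem exists_mulSection {N P : X.Modules} (σ : Γ(P, ⊤)) :
    ∃ φ : N ⟶ CohB1.tensorMod N P,
      ∀ (V : X.Opens) (a : Γ(N, V)), φ.app V a = shT a (AmpleLib.res P (le_top : V ≤ ⊤) σ) := by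
  obtain ⟨u, hu, hu'⟩ := exists_unit_iso N
  refine ⟨inv u ≫ tmap N (unitHom P σ), fun V a => ?_⟩
  have h2 : u.app V (shT a (show Γ(Coh.structureModule X, V) from (1 : Γ(X, V)))) = a :=
    (hu' V a _).trans (one_smul Γ(X, V) a)
  have h1 : (inv u).app V a = shT a (show Γ(Coh.structureModule X, V) from (1 : Γ(X, V))) := by
    have h3 := congrArg ((inv u).app V) h2
    rw [← ConcreteCategory.comp_apply, ← Scheme.Modules.Hom.comp_app, IsIso.hom_inv_id] at h3
    exact h3.symm
  rw [Scheme.Modules.Hom.comp_app, ConcreteCategory.comp_apply, h1, tmap_shT]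
  refine congrArg (shT a) ?_
  rw [unitHom_app]
  exact one_smul Γ(X, V) _

omit [IsIntegral X] in
theorem hhZero_natural {M N : X.Modules} (g : M ⟶ N) (z : Coh.HH X M 0) :
    QCohLib.h0 (QCohLib.hEquiv ((toAbF X).obj N) 0 (hMap (k := k) g 0 z)) =
      g.app ⊤ (QCohLib.h0 (QCohLib.hEquiv ((toAbF X).obj M) 0 z)) := by
  rw [hMap_apply, QCohLib.hEquiv_map, QCohLib.h0_comp]
  rfl

include k hdim in
variable (k) in
theorem eventually_globallyGenerated {P : X.Modules} (hP : PicF.IsInvertible P) (σ : Γ(P, ⊤))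
    (hσ : genericPoint X ∈ genSet hP σ) :
    ∃ m : ℕ, ∀ x : X, ∃ τ : Γ(CohB1.tensorPow P (m + 1), ⊤),
      x ∈ genSet (AmpleThLib.tensorPow_isInvertible hP (m + 1)) τ := by
  let a : ℕ → ℕ := fun m => Module.finrank k (Coh.HH X (CohB1.tensorPow P m) 1)
  have hφ : ∀ m, ∃ φ : CohB1.tensorPow P m ⟶ CohB1.tensorPow P (m + 1), φ ≠ 0 ∧
      ∀ (V : X.Opens) (s : Γ(CohB1.tensorPow P m, V)),
        φ.app V s = shT s (AmpleLib.res P (le_top : V ≤ ⊤) σ) := by
    intro m
    obtain ⟨φ, hφ⟩ := exists_mulSection (N := CohB1.tensorPow P m) σ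
    refine ⟨φ, fun h0 => ?_, hφ⟩
    obtain ⟨U, e, hU, he⟩ := TwistLib.exists_genOn (AmpleThLib.tensorPow_isInvertible hP m) (genericPoint X)
    have h1 : GenAt (CohB1.tensorMod (CohB1.tensorPow P m) P)
        (shT e (AmpleLib.res P (le_top : U ≤ ⊤) σ)) hU :=
      (he.genAt hU).tensor ((AmpleLib.genAt_res _ σ hU).mpr hσ)
    have hz : φ.app U e = 0 := by rw [h0]; rfl
    rw [hφ] at hz
    exact zero_not_genAt (hz ▸ h1)
  choose φ hφ0 hφ using hφ
  obtain ⟨m, hm⟩ : ∃ m, ∀ m', a m ≤ a m' := ⟨Function.argmin a, fun m' => Function.argmin_le a m'⟩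
  refine ⟨m, fun x => ?_⟩
  let N := CohB1.tensorPow P m
  let N' := CohB1.tensorPow P (m + 1)
  have hN : PicF.IsInvertible N := AmpleThLib.tensorPow_isInvertible hP m
  have hN' : PicF.IsInvertible N' := AmpleThLib.tensorPow_isInvertible hP (m + 1)
  obtain ⟨hQ, hQd⟩ := cokernel_data (k := k) hN hN' hdim (hφ0 m)
  haveI := mono_of_ne_zero hN hN' (hφ0 m)
  haveI := CurvLib.isNoetherian k (X := X)
  let S : ShortComplex X.Modules := ShortComplex.mk (φ m) (cokernel.π (φ m)) (cokernel.condition (φ m))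
  have hS : S.ShortExact :=
    { exact := ShortComplex.exact_of_g_is_cokernel _ (cokernelIsCokernel (φ m))
      mono_f := inferInstanceAs (Mono (φ m))
      epi_g := inferInstanceAs (Epi (cokernel.π (φ m))) }
  have hle : a (m + 1) ≤ a m := h1_le hdim hN hN' (hφ0 m)
  haveI : Module.Finite k (Coh.HH X S.X₁ 1) := finite_HH (isCoh_of_isInvertible hN) 1
  haveI : Module.Finite k (Coh.HH X S.X₂ 1) := finite_HH (isCoh_of_isInvertible hN') 1
  haveI : Subsingleton (Coh.HH X S.X₃ 1) :=
    subsingleton_HH_of_support_dim (cokernel (φ m)) hQ.2 (d := 0) (by exact_mod_cast hQd) 1 Nat.one_pos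
  have hsurj : Function.Surjective (hMap (k := k) S.f 1) := fun y =>
    LinearMap.mem_range.mp (by rw [exact₂ hS 1, LinearMap.mem_ker]; exact Subsingleton.elim _ _)
  have hinj : Function.Injective (hMap (k := k) S.f 1) :=
    (LinearMap.injective_iff_surjective_of_finrank_eq_finrank (le_antisymm (hm (m + 1)) hle)).mpr hsurj
  have hsec : ∀ t : Γ(S.X₃, ⊤), ∃ τ : Γ(S.X₂, ⊤), S.g.app ⊤ τ = t := by
    intro t
    obtain ⟨y, rfl⟩ : ∃ y : Coh.HH X S.X₃ 0, QCohLib.h0 (QCohLib.hEquiv ((toAbF X).obj S.X₃) 0 y) = t :=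
      ⟨(QCohLib.hEquiv ((toAbF X).obj S.X₃) 0).symm
        ((QCohLib.h0 (U := (⊤ : Opens X.toTopCat))).symm t), by simp⟩
    have hδ : hDel (k := k) hS 0 y = 0 := hinj (by
      rw [map_zero, ← LinearMap.mem_ker, ← exact₁ hS 0]
      exact ⟨y, rfl⟩)
    obtain ⟨z, rfl⟩ := LinearMap.mem_range.mp (show y ∈ LinearMap.range (hMap (k := k) S.g 0) by
      rw [exact₃ hS 0]; exact hδ)
    exact ⟨_, (hhZero_natural S.g z).symm⟩
  by_cases hx : x ∈ genSet hP σ
  · exact ⟨AmpleThLib.pS σ (m + 1), AmpleThLib.pS_genAt hx (m + 1)⟩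
  obtain ⟨U, g, hxU, hg⟩ := TwistLib.exists_genOn hP x
  obtain ⟨c, hc⟩ := AmpleThLib.exists_coeff σ hg
  have hcx : ¬ IsUnit (X.presheaf.germ U x hxU c) := fun h => hx
    ((AmpleThLib.mem_genSet_coeff hP σ hg hc).ge ((Scheme.mem_basicOpen X c x hxU).mpr h)).1
  let e := AmpleThLib.pS g m
  have he : GenOn N e := AmpleThLib.pS_genOn hg m
  let E : Γ(N', U) := AmpleThLib.pS g (m + 1)
  have hE : GenOn N' E := AmpleThLib.pS_genOn hg (m + 1)
  obtain ⟨hT, hTc⟩ := finite_support_data k hQ hQd
  let gm' := fun (M : X.Modules) (V : X.Opens) (h : x ∈ V) (s : Γ(M, V)) => M.presheaf.germ V x h s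
  obtain ⟨t, ht⟩ := surjective_germ_of_finite_support (cokernel (φ m)) hT hTc subset_rfl x
    (((St x).map S.g).hom (gm N' x hxU E))
  obtain ⟨τ, rfl⟩ := hsec t
  refine ⟨τ, ?_⟩
  have hx' := hS.map_of_exact (St x)
  have hker : ((St x).map S.g).hom (gm N' x (show x ∈ (⊤ : X.Opens) from trivial) τ - gm N' x hxU E) = 0 := by
    rw [map_sub, sub_eq_zero]
    exact (DerSch.stalkFunctor_map_germ x S.g ⊤ trivial τ).trans ht
  obtain ⟨b, hb⟩ := ((ShortComplex.moduleCat_exact_iff _).mp hx'.exact) _ hker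
  obtain ⟨r, hr⟩ := (he.genAt hxU).2 b
  have himg : ((St x).map S.f).hom (gm N x hxU e) = X.presheaf.germ U x hxU c • gm N' x hxU E := by
    refine (DerSch.stalkFunctor_map_germ x S.f U hxU e).trans ?_
    refine (congrArg (gm N' x hxU) ?_).trans (AmpleLib.germ_smul N' c E hxU)
    change (φ m).app U e = c • E
    rw [hφ, ← hc]
    have h5 := AmpleLib.shT_smul 1 c e g
    rw [one_smul, one_mul] at h5
    exact h5
  have hτ : gm N' x (show x ∈ (⊤ : X.Opens) from trivial) τ =
      (1 + r * X.presheaf.germ U x hxU c) • gm N' x hxU E := by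
    have h1 := hb
    rw [← hr] at h1
    rw [add_smul, one_smul, mul_smul, ← himg]
    exact (eq_add_of_sub_eq' ((map_smul ((St x).map S.f).hom r (gm N x hxU e)).symm.trans h1).symm)
  have hunit : IsUnit (1 + r * X.presheaf.germ U x hxU c) := by
    rw [← IsLocalRing.notMem_maximalIdeal]
    intro h
    refine (IsLocalRing.maximalIdeal.isMaximal (X.presheaf.stalk x)).ne_top ((Ideal.eq_top_iff_one _).mpr ?_)
    simpa using sub_mem h (Ideal.mul_mem_left _ r ((IsLocalRing.mem_maximalIdeal _).mpr hcx))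
  change Function.Bijective fun d => d • gm N' x (show x ∈ (⊤ : X.Opens) from trivial) τ
  rw [hτ]
  simp only [smul_smul]
  exact (hE.genAt hxU).comp hunit.unit.mulRight.bijective

include hdim in
theorem isAmple_of_deg_pos {L : X.Modules} (hL : PicF.IsInvertible L) (h : 0 < Curv2.deg k X L 1) :
    CohB1.IsAmple L := by
  haveI := CurvLib.isNoetherian k (X := X)
  let n := (Curv2.euler k X (Coh.structureModule X)).natAbs + 1
  have hn : 0 < Curv2.euler k X (CohB1.tensorPow L n) := by
    rw [deg_pow hdim hL]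
    have h2 : (n : ℤ) ≤ (n : ℤ) * Curv2.deg k X L 1 := le_mul_of_one_le_right (by omega) h
    omega
  let P := CohB1.tensorPow L n
  have hP : PicF.IsInvertible P := AmpleThLib.tensorPow_isInvertible hL n
  obtain ⟨s, hs⟩ := exists_hom_ne_zero (L := P) (X := X) (Module.nontrivial_of_finrank_pos (R := k) (by
    rw [euler_curve hdim] at hn
    show 0 < Module.finrank k (Coh.HH X (CohB1.tensorPow L n) 0)
    omega))
  let σ : Γ(P, ⊤) := s.app ⊤ (1 : Γ(X, ⊤))
  have hσ : genericPoint X ∈ genSet hP σ := by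
    obtain ⟨U, g, hU, hg⟩ := TwistLib.exists_genOn hP (genericPoint X)
    have hnot := generic_notMem_support_cokernel isInvertible_structureModule hP hs
    obtain ⟨c, hc⟩ := AmpleThLib.exists_coeff σ hg
    refine ((AmpleThLib.mem_genSet_coeff hP σ hg hc).ge ((Scheme.mem_basicOpen X c _ hU).mpr ?_)).1
    letI : Field (X.presheaf.stalk (genericPoint X)) := (inferInstance : Field X.functionField)
    refine isUnit_iff_ne_zero.mpr fun h0 => hs (?_ : s = 0)
    rcases stalk_dichotomy isInvertible_structureModule hP s with h1 | h1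
    · exact eq_zero_of_stalks s h1
    · exfalso
      have h2 : ((St (genericPoint X)).map s).hom
          (gm (Coh.structureModule X) _ (show genericPoint X ∈ (⊤ : X.Opens) from trivial) (1 : Γ(X, ⊤))) = 0 := by
        refine (DerSch.stalkFunctor_map_germ _ s ⊤ trivial _).trans ?_
        have h3 := congrArg (gm P _ hU) hc
        rw [gm_smul, h0, zero_smul] at h3
        exact (h3.trans (AmpleLib.germ_res P le_top σ hU)).symm
      have h4 := h1 (genericPoint X) (h2.trans (map_zero _).symm)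
      have h5 := ((AmpleLib.one_genOn (⊤ : X.Opens)).genAt (x := genericPoint X) trivial).1
        (a₁ := 1) (a₂ := 0) (((one_smul _ _).trans h4).trans (zero_smul _ _).symm)
      exact one_ne_zero h5
  obtain ⟨m, hgen⟩ := eventually_globallyGenerated k hdim hP σ hσ
  let Q := CohB1.tensorPow P (m + 1)
  have hQ : PicF.IsInvertible Q := AmpleThLib.tensorPow_isInvertible hP (m + 1)
  choose τ hτ using hgen
  obtain ⟨t, ht⟩ := isCompact_univ.elim_finite_subcover (fun x => (genSet hQ (τ x) : Set X))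
    (fun x => (genSet hQ (τ x)).2) fun x _ => Set.mem_iUnion.mpr ⟨x, hτ x⟩
  have htne : t.Nonempty := by
    obtain ⟨x, hx, -⟩ := Set.mem_iUnion₂.mp (ht (Set.mem_univ (genericPoint X)))
    exact ⟨x, hx⟩
  obtain ⟨M, hM⟩ : ∃ M, t.card = M + 1 := ⟨_, (Nat.succ_pred_eq_of_pos htne.card_pos).symm⟩
  let v : Fin (M + 1) → Γ(Q, ⊤) := fun j => τ ((t.equivFinOfCardEq hM).symm j).1
  have hv : ∀ y : X, ∃ j, y ∈ genSet hQ (v j) := fun y => by
    obtain ⟨x, hx, hy⟩ := Set.mem_iUnion₂.mp (ht (Set.mem_univ y))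
    refine ⟨t.equivFinOfCardEq hM ⟨x, hx⟩, ?_⟩
    simp only [v, Equiv.symm_apply_apply]
    exact hy
  have hne : ∀ j, genSet hQ (v j) ≠ ⊤ := by
    intro j htop
    have hne0 : QCohLib.unitHom Q (v j) ≠ 0 := fun h0 => by
      have h1 : genericPoint X ∈ genSet hQ (v j) := htop ▸ trivial
      have h2 : v j = 0 := by
        have := congrArg (fun φ : Coh.structureModule X ⟶ Q => φ.app ⊤ (1 : Γ(X, ⊤))) h0
        change (QCohLib.unitHom Q (v j)).app ⊤ (1 : Γ(X, ⊤)) = 0 at this
        rw [QCohLib.unitHom_app, one_smul] at this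
        exact (toSections_top Q (v j)).symm.trans this
      rw [h2] at h1
      exact zero_not_genAt (show GenAt Q (0 : Γ(Q, ⊤)) (show genericPoint X ∈ (⊤ : X.Opens) from trivial) from h1)
    haveI := AmpleLib.isIso_unitHom (v j) (by
      have h1 := TwistLib.genSet_genOn hQ (v j)
      rw [htop] at h1
      rwa [AmpleLib.res_refl] at h1)
    have h2 := euler_congr (k := k) (asIso (QCohLib.unitHom Q (v j)))
    rw [deg_pow hdim hP] at h2
    have h3 : ((m + 1 : ℕ) : ℤ) * Curv2.deg k X P 1 = 0 := by linarith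
    rw [Curv2.deg, show Curv2.euler k X P = _ from deg_pow hdim hL n] at h3
    have : (0 : ℤ) < ((m + 1 : ℕ) : ℤ) * ((n : ℤ) * Curv2.deg k X L 1) := by positivity
    simp only [Nat.cast_one, one_mul, add_sub_cancel_right] at h3
    omega
  obtain ⟨r, -, hr, -⟩ := AmpleThLib.exists_toPZ hQ v hv
  let Y := Spec (CommRingCat.of k)
  let e : X ⟶ CohB1.ProjSpaceOver M Y := poLift r (X ↘ Y)
  have he : e ≫ CohB1.ProjSpaceOver.toBase M Y = X ↘ Y := poLift_toBase _ _
  have : IsProper (e ≫ CohB1.ProjSpaceOver.toBase M Y) := by rw [he]; infer_instance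
  haveI : IsSeparated (CohB1.ProjSpaceOver.toBase M Y) := (ChowLib.isProper_toBase M Y).toIsSeparated
  haveI : IsProper e := IsProper.of_comp e (CohB1.ProjSpaceOver.toBase M Y)
  have hpre : ∀ j, e ⁻¹ᵁ AmpleThLib.Pk Y j = genSet hQ (v j) := fun j => by
    rw [← hr j, AmpleThLib.Pk, ← Scheme.Hom.comp_preimage, poLift_toPZ]
  have hfib : ∀ y, (e ⁻¹' {y}).Finite := by
    intro y
    by_cases hη : genericPoint X ∈ e ⁻¹' {y}
    · refine (Set.finite_singleton (genericPoint X)).subset fun x hx => ?_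
      by_contra hxη
      have hcl : closure ({x} : Set X) ≠ Set.univ := fun h => hxη (IsGenericPoint.eq h (genericPoint_spec X))
      have hxc := (proper_closed_finite k hdim isClosed_closure hcl).2 x (subset_closure rfl)
      have hyc : IsClosed ({y} : Set _) := by
        have := e.isClosedMap _ hxc
        rwa [Set.image_singleton, show e x = y from hx] at this
      have hall : ∀ z : X, e z = y := fun z =>
        (hyc.preimage e.continuous).closure_subset_iff.mpr (Set.singleton_subset_iff.mpr hη)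
          ((genericPoint_spec X).specializes trivial).mem_closure
      obtain ⟨j, hj⟩ := hv (genericPoint X)
      refine hne j (top_le_iff.mp fun z _ => ?_)
      rw [← hpre j] at hj ⊢
      change e (genericPoint X) ∈ AmpleThLib.Pk Y j at hj
      change e z ∈ AmpleThLib.Pk Y j
      rwa [hall z, ← hall (genericPoint X)]
    · rcases Set.eq_empty_or_nonempty (e ⁻¹' {y}) with h0 | ⟨x, hx⟩
      · rw [h0]; exact Set.finite_empty
      have hcl : closure ({x} : Set X) ≠ Set.univ := fun h =>
        hη ((IsGenericPoint.eq h (genericPoint_spec X)) ▸ hx)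
      have hxc := (proper_closed_finite k hdim isClosed_closure hcl).2 x (subset_closure rfl)
      have hyc : IsClosed ({y} : Set _) := by
        have := e.isClosedMap _ hxc
        rwa [Set.image_singleton, show e x = y from hx] at this
      exact (proper_closed_finite k hdim (hyc.preimage e.continuous) fun h => hη (h ▸ Set.mem_univ _)).1
  haveI : LocallyQuasiFinite e := LocallyQuasiFinite.of_finite_preimage_singleton e hfib
  haveI : IsFinite e := IsFinite.of_isProper_of_locallyQuasiFinite e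
  have hQa : CohB1.IsAmple Q := by
    refine (AmpleThLib.isAmple_iff (hL := hQ)).mpr ⟨inferInstance, fun y => ?_⟩
    obtain ⟨j, hj⟩ := hv y
    exact ⟨1, _, one_pos, ⟨_, genSet_pS_one hQ (v j)⟩, hj,
      hpre j ▸ (AmpleThLib.isAffineOpen_Pk Y j).preimage e⟩
  exact (AmpleThLib.isAmple_tensorPow_iff hL (Nat.succ_pos _)).mpr
    ((AmpleThLib.isAmple_tensorPow_iff hP (Nat.succ_pos m)).mpr hQa)

end SerreVanLib

end

noncomputable section

namespace SerreVanLib

open CategoryTheory CategoryTheory.Limits AlgebraicGeometry CurvLib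

variable {k : Type u} [Field k] {X : Scheme.{u}} [X.Over (Spec (CommRingCat.of k))]
  [IsIntegral X] [IsProper (X ↘ Spec (CommRingCat.of k))] (hdim : topologicalKrullDim X = 1)

include hdim in
theorem deg_pos_of_isAmple {L : X.Modules} (hA : CohB1.IsAmple L) : 0 < Curv2.deg k X L 1 := by
  haveI := CurvLib.isNoetherian k (X := X)
  have hL := hA.1
  obtain ⟨n, s, hη, haff⟩ := hA.2.2 (genericPoint X)
  have hP := AmpleThLib.tensorPow_isInvertible hL (n + 1)
  rw [AmpleThLib.genLocus_hom hP s] at hη haff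
  have hs : s ≠ 0 := fun h => by
    subst h
    exact zero_not_genAt (show AmpleLib.GenAt (CohB1.tensorPow L (n + 1)) 0 _ from hη)
  by_contra hd
  haveI := isIso_of_euler_le (k := k) isInvertible_structureModule hP hdim hs (by
    rw [deg_pow hdim hL]
    have : ((n + 1 : ℕ) : ℤ) * Curv2.deg k X L 1 ≤ 0 :=
      mul_nonpos_of_nonneg_of_nonpos (by positivity) (not_lt.mp hd)
    omega)
  have htop := CurvLib.genLocus_eq_top_of_isIso s
  rw [AmpleThLib.genLocus_hom hP s] at htop
  rw [htop] at haff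
  haveI : IsAffine (⊤ : X.Opens).toScheme := haff
  exact not_isAffine k hdim (IsAffine.of_isIso X.topIso.inv)

end SerreVanLib

end
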