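import Groth.Agent.GrTildeLib.TensLift
import Groth.Agent.AtlasCohLib.Tw
import Groth.Agent.AmpleThLib.Pow
import Groth.Agent.KFlatLib.FreeModel
import Groth.Agent.KFlatLib.PullTensor
import Groth.Agent.KFlatLib.QCohTensor
import Groth.Agent.RpushLib.Finite

/-!
# Twists as tensor products, and coherence of tensor products with invertible modules
-/

set_option autoImplicit false
universe u

open CategoryTheory CategoryTheory.Limits AlgebraicGeometry TopologicalSpace Opposite
open AmpleLib (res GenAt GenOn shT)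

noncomputable section

namespace SerreVanLib

variable {X : Scheme.{u}}

/-- The coefficient against a generator. -/
def cf {P : X.Modules} {U : X.Opens} {g : Γ(P, U)} (hg : GenOn P g) {V : X.Opens} (h : V ≤ U)
    (σ : Γ(P, V)) : Γ(X, V) :=
  (Equiv.ofBijective _ (hg V h)).symm σ

lemma cf_spec {P : X.Modules} {U : X.Opens} {g : Γ(P, U)} (hg : GenOn P g) {V : X.Opens} (h : V ≤ U)
    (σ : Γ(P, V)) : cf hg h σ • res P h g = σ :=
  (Equiv.ofBijective _ (hg V h)).apply_symm_apply σ

lemma cf_eq {P : X.Modules} {U : X.Opens} {g : Γ(P, U)} (hg : GenOn P g) {V : X.Opens} (h : V ≤ U)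
    {σ : Γ(P, V)} {c : Γ(X, V)} (hc : c • res P h g = σ) : cf hg h σ = c :=
  (hg V h).1 ((cf_spec hg h σ).trans hc.symm)

lemma cf_add {P : X.Modules} {U : X.Opens} {g : Γ(P, U)} (hg : GenOn P g) {V : X.Opens} (h : V ≤ U)
    (σ τ : Γ(P, V)) : cf hg h (σ + τ) = cf hg h σ + cf hg h τ :=
  cf_eq hg h (by rw [add_smul, cf_spec, cf_spec])

lemma cf_smul {P : X.Modules} {U : X.Opens} {g : Γ(P, U)} (hg : GenOn P g) {V : X.Opens} (h : V ≤ U)
    (r : Γ(X, V)) (σ : Γ(P, V)) : cf hg h (r • σ) = r * cf hg h σ :=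
  cf_eq hg h (by rw [mul_smul, cf_spec])

lemma cf_res {P : X.Modules} {U : X.Opens} {g : Γ(P, U)} (hg : GenOn P g) {V V' : X.Opens} (h : V ≤ U)
    (h' : V' ≤ V) (σ : Γ(P, V)) :
    cf hg (h'.trans h) (res P h' σ) = AtlasCoh.resO h' (cf hg h σ) := by
  refine cf_eq hg _ ?_
  conv_rhs => rw [← cf_spec hg h σ, AmpleLib.res_smul, AmpleLib.res_res]

open AtlasCoh

variable {n : ℕ} (C : Coords n X) (hC : ⨆ i, C.U i = ⊤) (M P : X.Modules) (g : ∀ i, Γ(P, C.U i))
  (hg : ∀ i, GenOn P (g i)) (d : ℕ)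
  (htr : ∀ (i j : Fin (n + 1)) (W : X.Opens) (hi : W ≤ C.U i) (hj : W ≤ C.U j),
    res P hj (g j) = resO hi (C.coord i j) ^ d • res P hi (g i))

include hC hg htr in
/-- A twist is the tensor product with a module having the same transition functions. -/
theorem nonempty_tensor_iso_tw : Nonempty (CohB1.tensorMod M P ≅ tw M C (d : ℤ)) := by
  let a : ∀ (V : X.Opens), Γ(M, V) → Γ(P, V) → ∀ i, Γ(M, C.U i ⊓ V) := fun V m σ i =>
    cf (hg i) inf_le_left (res P (inf_le_right : C.U i ⊓ V ≤ V) σ) • rsM M inf_le_right m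
  have ha : ∀ V m σ, TwCompat M C (d : ℤ) V (a V m σ) := by
    intro V m σ i j W hi hj
    simp only [a]
    rw [rsM_smul, rsM_smul, rsM_rsM, rsM_rsM, smul_smul, ← cf_res, ← cf_res, AmpleLib.res_res,
      AmpleLib.res_res]
    congr 1
    refine cf_eq _ _ ?_
    have h := cf_spec (hg j) (hj.trans inf_le_left) (res P (hj.trans inf_le_right) σ)
    rw [htr i j W (hi.trans inf_le_left) (hj.trans inf_le_left), smul_smul] at h
    rw [C.u_natCast, mul_comm]
    exact h
  let b : ∀ V : X.Opens, Γ(M, V) → Γ(P, V) → Γ(tw M C (d : ℤ), V) := fun V m σ =>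
    (twSec M C (d : ℤ) V).symm ⟨a V m σ, ha V m σ⟩
  let af : ∀ (V : X.Opens) (m : Γ(M, V)) (σ : Γ(P, V)) (i : Fin (n + 1)), Γ(M, C.U i ⊓ V) := a
  refine GrTildeLib.exists_tens_iso b (fun V m m' σ => twAdd_ext fun i => ?_)
    (fun V m σ σ' => twAdd_ext fun i => ?_) (fun V r m σ => twAdd_ext fun i => ?_)
    (fun V r m σ => twAdd_ext fun i => ?_) (fun V W h m σ => twAdd_ext fun i => ?_) fun x => ?_
  · show a V (m + m') σ i = a V m σ i + a V m' σ i
    simp only [a, map_add, smul_add]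
  · show a V m (σ + σ') i = a V m σ i + a V m σ' i
    simp only [a, ← add_smul, ← cf_add]
    exact congrArg (fun t => cf (hg i) (inf_le_left : C.U i ⊓ V ≤ C.U i) t • rsM M (inf_le_right : C.U i ⊓ V ≤ V) m) (map_add (rsM P (inf_le_right : C.U i ⊓ V ≤ V)) σ σ')
  · refine Eq.trans ?_ (twComp_smul (M := M) r (b V m σ) i).symm
    show a V (r • m) σ i = resO inf_le_right r • a V m σ i
    simp only [a]
    rw [rsM_smul, smul_comm]
  · refine Eq.trans ?_ (twComp_smul (M := M) r (b V m σ) i).symm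
    show a V m (r • σ) i = resO inf_le_right r • a V m σ i
    simp only [a]
    rw [smul_smul, ← cf_smul, AmpleLib.res_smul]
  · show rsM M (inf_le_inf_left _ h) (a W m σ i) = a V (rsM M h m) (res P h σ) i
    simp only [a]
    rw [rsM_smul, rsM_rsM, rsM_rsM, ← cf_res, AmpleLib.res_res, AmpleLib.res_res]
  · obtain ⟨k, hk⟩ := Opens.mem_iSup.mp (show x ∈ ⨆ i, C.U i by rw [hC]; trivial)
    refine ⟨C.U k, hk, g k, (hg k).genAt hk, fun V hV => ?_⟩
    have key : ∀ m, twEval M C (d : ℤ) k hV (b V m (res P hV (g k))) = m := by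
      intro m
      show rsM M (le_inf hV le_rfl) (a V m (res P hV (g k)) k) = m
      simp only [a]
      rw [rsM_smul, rsM_rsM, rsM_self, ← cf_res, AmpleLib.res_res, AmpleLib.res_res,
        cf_eq (hg k) hV (one_smul Γ(X, V) _), one_smul]
    exact (Function.Bijective.of_comp_iff' (twEval_bijective M C (d : ℤ) k hV) _).mp
      (by rw [show twEval M C (d : ℤ) k hV ∘ (fun m => b V m (res P hV (g k))) = id from funext key]
          exact Function.bijective_id)

/-- Tensoring with an invertible module does nothing locally. -/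
theorem nonempty_restrict_tensor_iso (M : X.Modules) {L : X.Modules} {U : X.Opens}
    (e : L.restrict U.ι ≅ Coh.structureModule (U : Scheme.{u})) :
    Nonempty ((CohB1.tensorMod M L).restrict U.ι ≅ M.restrict U.ι) := by
  let φ := fun N : X.Modules => (Scheme.Modules.restrictFunctorIsoPullback U.ι).app N
  exact ⟨φ _ ≪≫ @asIso _ _ _ _ (KFlatLib.pullθ U.ι M L) (KFlatLib.isIso_pullθ _ _ _) ≪≫
    ((DCoh.tensorBi (X := (U : Scheme.{u}))).obj _).mapIso ((φ L).symm ≪≫ e) ≪≫
    (KFlatLib.tensSwap (Coh.structureModule _) _) ≪≫ KFlatLib.tensUnitIso _ ≪≫ (φ M).symm⟩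

/-- Tensoring with an invertible module keeps coherence. -/
theorem isCoh_tensor {M L : X.Modules} (hM : Coh.IsCoh M) (hL : PicF.IsInvertible L) :
    Coh.IsCoh (CohB1.tensorMod M L) := by
  choose U hU e using hL
  have hc : ⨆ x, U x = ⊤ := eq_top_iff.mpr fun x _ => Opens.mem_iSup.mpr ⟨x, hU x⟩
  have i := fun x => (nonempty_restrict_tensor_iso M (e x).some).some
  refine ⟨QCohLib.isQCoh_of_cover _ U hc fun x => ?_,
    QCohLib.isFT_of_cover _ U hc fun x => QCohLib.isFT_of_iso (i x).symm (RpushLib.isFT_restrict hM.2 (U x))⟩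
  haveI := hM.1
  exact QCohLib.isQCoh_of_iso (i x).symm

end SerreVanLib

end
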