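import Groth.Agent.SerreVanLib.Main
import Groth.Agent.RpushLib.Finite
import Groth.Agent.AmpleThLib.Restr

/-!
# Vanishing of higher direct images of twists by a relatively ample module
-/

set_option autoImplicit false
universe u

open CategoryTheory CategoryTheory.Limits AlgebraicGeometry TopologicalSpace Opposite

noncomputable section

namespace SerreVanLib

variable {X S : Scheme.{u}}

/-- A quasi-coherent module without sections on an affine open has no stalks there. -/
theorem subsingleton_stalk_of_sections (N : X.Modules) [Coh.IsQCoh N] {U : X.Opens}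
    (hU : IsAffineOpen U) (h : Subsingleton Γ(N, U)) {y : X} (hy : y ∈ U) :
    Subsingleton (N.presheaf.stalk y) := by
  have hg := QCohLib.genOn_of_span hU (M := N) (fun i : ULift.{u} (Fin 0) => i.down.elim0)
    (Subsingleton.elim _ _)
  refine (QCohLib.subsingleton_stalk_iff N y).mpr fun V hV t => ?_
  obtain ⟨W, hW, hWU, hyW, c, hc⟩ :=
    hg (V ⊓ U) inf_le_right (N.presheaf.map (homOfLE inf_le_left).op t) y ⟨hV, hy⟩
  refine ⟨W, hW.trans inf_le_left, hyW, ?_⟩
  rw [QCohLib.map_map'] at hc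
  exact hc.trans (Finset.sum_eq_zero fun i _ => i.down.elim0)

/-- Restriction of a tensor product with a power. -/
theorem nonempty_restrict_pow_iso (U : X.Opens) (M : X.Modules) {L : X.Modules}
    (hL : PicF.IsInvertible L) (n : ℕ) :
    Nonempty ((CohB1.tensorMod M (CohB1.tensorPow L n)).restrict U.ι ≅
      CohB1.tensorMod (M.restrict U.ι) (CohB1.tensorPow (L.restrict U.ι) n)) := by
  obtain ⟨e, -⟩ := AmpleThLib.exists_restrIso hL U.ι n
  let φ := fun N : X.Modules => (Scheme.Modules.restrictFunctorIsoPullback U.ι).app N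
  exact ⟨φ _ ≪≫ @asIso _ _ _ _ (KFlatLib.pullθ U.ι M (CohB1.tensorPow L n))
      (KFlatLib.isIso_pullθ _ _ _) ≪≫
    ((DCoh.tensorBi (X := (U : Scheme.{u}))).obj _).mapIso ((φ _).symm ≪≫ e.symm) ≪≫
    ((DCoh.tensorBi (X := (U : Scheme.{u}))).mapIso (φ M).symm).app _⟩

theorem exists_vanishing_rpush (f : X ⟶ S) [IsProper f] [IsNoetherian S] (L : X.Modules)
    (hL : PicF.IsInvertible L)
    (ha : ∀ W : S.Opens, IsAffineOpen W → CohB1.IsAmple (L.restrict (f ⁻¹ᵁ W).ι))
    (M : X.Modules) (hM : Coh.IsCoh M) :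
    ∃ n₀ : ℕ, ∀ n : ℕ, n₀ ≤ n → ∀ p : ℕ, 0 < p →
      IsZero ((Coh.RpushAb f p).obj (Coh.toAb (CohB1.tensorMod M (CohB1.tensorPow L n)))) := by
  have hloc : ∀ W : S.affineOpens, ∃ n₀ : ℕ, ∀ n : ℕ, n₀ ≤ n → ∀ p : ℕ, 0 < p →
      Subsingleton (Coh.HHon X (CohB1.tensorMod M (CohB1.tensorPow L n)) (f ⁻¹ᵁ W.1) p) := by
    intro W
    haveI : IsNoetherianRing Γ(S, W.1) := IsLocallyNoetherian.component_noetherian W
    haveI : IsProper (f ∣_ W.1) := IsZariskiLocalAtTarget.restrict ‹_› W.1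
    haveI : IsProper (RpushLib.overW f W.2) := by unfold RpushLib.overW; infer_instance
    haveI := hM.1
    obtain ⟨n₀, hn₀⟩ := exists_vanishing (RpushLib.overW f W.2)
      (AmpleThLib.restrict_isInvertible hL (f ⁻¹ᵁ W.1).ι) (ha W.1 W.2) (M.restrict (f ⁻¹ᵁ W.1).ι)
      ⟨inferInstance, RpushLib.isFT_restrict hM.2 _⟩
    exact ⟨n₀, fun n hn p hp => subsingleton_HH_of_iso
      (nonempty_restrict_pow_iso (f ⁻¹ᵁ W.1) M hL n).some p (hn₀ n hn p hp)⟩
  choose n₀ hn₀ using hloc
  obtain ⟨t, ht⟩ := isCompact_univ.elim_finite_subcover (fun W : S.affineOpens => (W.1 : Set S))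
    (fun W => W.1.2) fun y _ => by
      obtain ⟨W, hW, hy, -⟩ := Opens.isBasis_iff_nbhd.mp S.isBasis_affineOpens
        (show y ∈ (⊤ : S.Opens) from trivial)
      exact Set.mem_iUnion.mpr ⟨⟨W, hW⟩, hy⟩
  refine ⟨t.sum n₀, fun n hn p hp => ?_⟩
  let N := CohB1.tensorMod M (CohB1.tensorPow L n)
  haveI : Coh.IsQCoh N := (isCoh_tensor hM (AmpleThLib.tensorPow_isInvertible hL n)).1
  haveI := RpushLib.isQCoh_Rpush f N p
  have hstalk : ∀ y : S,
      IsZero (TopCat.Presheaf.stalk ((Coh.RpushAb f p).obj (Coh.toAb N)).obj y) := by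
    intro y
    obtain ⟨W, hWt, hy⟩ := Set.mem_iUnion₂.mp (ht (Set.mem_univ y))
    have := hn₀ W n ((Finset.single_le_sum (fun _ _ => Nat.zero_le _) hWt).trans hn) p hp
    have hsec : Subsingleton Γ((Coh.Rpush f p).obj N, W.1) :=
      (RpushLib.rpushSectionsEquiv f N p W.2).injective.subsingleton
    have := subsingleton_stalk_of_sections ((Coh.Rpush f p).obj N) W.2 hsec hy
    obtain ⟨e⟩ := RpushLib.nonempty_toAb_rpush_iso f N p
    have he := (TopCat.Presheaf.stalkFunctor AddCommGrpCat.{u} y).mapIso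
      ((CategoryTheory.sheafToPresheaf _ _).mapIso e)
    exact (AddCommGrpCat.isZero_of_subsingleton
      (((Coh.Rpush f p).obj N).presheaf.stalk y)).of_iso he.symm
  rw [IsZero.iff_id_eq_zero]
  let F : TopCat.Sheaf AddCommGrpCat.{u} S.toTopCat := (Coh.RpushAb f p).obj (Coh.toAb N)
  refine Sheaf.hom_ext (show (𝟙 F : F ⟶ F).hom = (0 : F ⟶ F).hom from ?_)
  refine NatTrans.ext (funext fun U => AddCommGrpCat.ext fun s => ?_)
  refine TopCat.Presheaf.section_ext F U.unop _ _ fun x hx => ?_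
  have := AddCommGrpCat.subsingleton_of_isZero (hstalk x)
  exact Subsingleton.elim _ _

end SerreVanLib

end
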